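import Mathlib

/-!
Degree bounds for ideals of polynomial rings: basic tools.
-/

set_option autoImplicit false
set_option linter.style.haveILetI false

universe u v

open MvPolynomial TensorProduct

namespace Groth.Agent.Calg46.RadBound

variable {σ : Type v}

/-- The ideal is generated in degrees `≤ D`. -/
def Bounded {k : Type u} [CommRing k] (D : ℕ) (I : Ideal (MvPolynomial σ k)) : Prop :=
  ∃ S : Set (MvPolynomial σ k), (∀ q ∈ S, q.totalDegree ≤ D) ∧ Ideal.span S = I

theorem Bounded.mono {k : Type u} [CommRing k] {D D' : ℕ} (hD : D ≤ D') {I : Ideal (MvPolynomial σ k)}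
    (h : Bounded D I) : Bounded D' I :=
  let ⟨S, h1, h2⟩ := h
  ⟨S, fun q hq => (h1 q hq).trans hD, h2⟩

theorem bounded_map_of_fg {A : Type u} [CommRing A] {I : Ideal (MvPolynomial σ A)} (hI : I.FG) :
    ∃ D, ∀ (k : Type u) [CommRing k] (φ : A →+* k), Bounded D (I.map (MvPolynomial.map φ)) := by
  classical
  obtain ⟨s, hs⟩ := hI
  refine ⟨s.sup totalDegree, fun k _ φ => ⟨MvPolynomial.map φ '' s, ?_, ?_⟩⟩
  · rintro _ ⟨q, hq, rfl⟩
    refine le_trans ?_ (Finset.le_sup (f := totalDegree) hq)
    exact Finset.sup_mono (support_map_subset φ q)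
  · rw [← Ideal.map_span]
    exact congrArg _ hs

/-- Noetherian induction on the base: it suffices to bound near every prime. -/
theorem exists_bound {A : Type u} [CommRing A] [IsNoetherianRing A]
    (Q : ℕ → ∀ (k : Type u) [Field k] [Algebra A k], Prop)
    (hmono : ∀ D D', D ≤ D' → ∀ (k : Type u) [Field k] [Algebra A k], Q D k → Q D' k)
    (h : ∀ p : Ideal A, p.IsPrime → ∃ c, c ∉ p ∧ ∃ D, ∀ (k : Type u) [Field k] [Algebra A k],
      p ≤ RingHom.ker (algebraMap A k) → algebraMap A k c ≠ 0 → Q D k) :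
    ∃ D, ∀ (k : Type u) [Field k] [Algebra A k], Q D k := by
  suffices H : ∀ 𝔞 : Ideal A, ∃ D, ∀ (k : Type u) [Field k] [Algebra A k],
      𝔞 ≤ RingHom.ker (algebraMap A k) → Q D k by
    obtain ⟨D, hD⟩ := H ⊥
    exact ⟨D, fun k _ _ => hD k bot_le⟩
  intro 𝔞
  induction 𝔞 using IsNoetherian.induction with
  | hgt 𝔞 ih =>
    by_cases hp : Ideal.IsPrime 𝔞
    · obtain ⟨c, hc, D, hD⟩ := h 𝔞 hp
      obtain ⟨D', hD'⟩ := ih (𝔞 ⊔ Ideal.span {c}) (lt_of_le_of_ne le_sup_left fun he =>
        hc (by rw [he]; exact Ideal.mem_sup_right (Ideal.subset_span rfl)))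
      refine ⟨max D D', fun k _ _ hk => ?_⟩
      by_cases hck : algebraMap A k c = 0
      · exact hmono _ _ (le_max_right D D') k (hD' k (sup_le hk (Ideal.span_le.2 (by simpa using hck))))
      · exact hmono _ _ (le_max_left D D') k (hD k hk hck)
    · by_cases htop : 𝔞 = ⊤
      · exact ⟨0, fun k _ _ hk => ((RingHom.ker_ne_top (algebraMap A k)) (top_le_iff.1 (htop ▸ hk))).elim⟩
      rw [Ideal.isPrime_iff] at hp
      push Not at hp
      obtain ⟨a, b, hab, ha, hb⟩ := hp htop
      obtain ⟨D, hD⟩ := ih (𝔞 ⊔ Ideal.span {a}) (lt_of_le_of_ne le_sup_left fun he =>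
        ha (by rw [he]; exact Ideal.mem_sup_right (Ideal.subset_span rfl)))
      obtain ⟨D', hD'⟩ := ih (𝔞 ⊔ Ideal.span {b}) (lt_of_le_of_ne le_sup_left fun he =>
        hb (by rw [he]; exact Ideal.mem_sup_right (Ideal.subset_span rfl)))
      refine ⟨max D D', fun k _ _ hk => ?_⟩
      have h0 : algebraMap A k a * algebraMap A k b = 0 := by rw [← map_mul]; exact hk hab
      rcases mul_eq_zero.1 h0 with h1 | h1
      · exact hmono _ _ (le_max_left D D') k (hD k (sup_le hk (Ideal.span_le.2 (by simpa using h1))))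
      · exact hmono _ _ (le_max_right D D') k (hD' k (sup_le hk (Ideal.span_le.2 (by simpa using h1))))

/-- Membership in an extended ideal descends along a field extension. -/
theorem mem_span_of_map_mem {k : Type u} [Field k] {L : Type u} [CommRing L] [Nontrivial L] [Algebra k L]
    {ι : Type*} [Fintype ι] (f : ι → MvPolynomial σ k) (x : MvPolynomial σ k)
    (h : MvPolynomial.map (algebraMap k L) x ∈ Ideal.span (Set.range fun i => MvPolynomial.map (algebraMap k L) (f i))) :
    x ∈ Ideal.span (Set.range f) := by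
  classical
  obtain ⟨π, hπ⟩ := LinearMap.exists_leftInverse_of_injective (Algebra.linearMap k L)
    (LinearMap.ker_eq_bot.2 (algebraMap k L).injective)
  have hπ1 : ∀ a, π (algebraMap k L a) = a := fun a => LinearMap.congr_fun hπ a
  obtain ⟨c, hc⟩ := Ideal.mem_span_range_iff_exists_fun.1 h
  let d : ι → MvPolynomial σ k := fun i => ∑ e ∈ (c i).support, monomial e (π ((c i).coeff e))
  have hd : ∀ i e, (d i).coeff e = π ((c i).coeff e) := fun i e => by
    simp only [d, coeff_sum, coeff_monomial, Finset.sum_ite_eq']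
    split_ifs with he
    · rfl
    · rw [notMem_support_iff.1 he, map_zero]
  refine Ideal.mem_span_range_iff_exists_fun.2 ⟨d, MvPolynomial.ext _ _ fun e => ?_⟩
  rw [← hπ1 (x.coeff e), ← coeff_map, ← hc, coeff_sum, coeff_sum, map_sum]
  refine Finset.sum_congr rfl fun i _ => ?_
  rw [coeff_mul, coeff_mul, map_sum]
  refine Finset.sum_congr rfl fun p _ => ?_
  rw [coeff_map, hd, mul_comm _ (algebraMap k L _), ← Algebra.smul_def, map_smul, smul_eq_mul, mul_comm]

section tensor

variable {A : Type u} [CommRing A] (I : Ideal (MvPolynomial σ A)) (L : Type u) [CommRing L] [Algebra A L]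

/-- `L[T] → L ⊗ (A[T]/I)`. -/
noncomputable def toTensor : MvPolynomial σ L →ₐ[L] L ⊗[A] (MvPolynomial σ A ⧸ I) :=
  aeval fun i => (1 : L) ⊗ₜ[A] Ideal.Quotient.mk I (X i)

theorem toTensor_map (p : MvPolynomial σ A) :
    toTensor I L (MvPolynomial.map (algebraMap A L) p) = (1 : L) ⊗ₜ[A] Ideal.Quotient.mk I p := by
  have h : ((toTensor I L).restrictScalars A).comp (mapAlgHom (Algebra.ofId A L)) =
      (Algebra.TensorProduct.includeRight).comp (Ideal.Quotient.mkₐ A I) := algHom_ext fun i => by
    simp [toTensor]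
  exact AlgHom.congr_fun h p

theorem toTensor_surjective : Function.Surjective (toTensor I L) := by
  intro z
  induction z using TensorProduct.induction_on with
  | zero => exact ⟨0, map_zero _⟩
  | tmul a b =>
    obtain ⟨p, rfl⟩ := Ideal.Quotient.mk_surjective b
    exact ⟨a • MvPolynomial.map (algebraMap A L) p, by
      rw [map_smul, toTensor_map, TensorProduct.smul_tmul', smul_eq_mul, mul_one]⟩
  | add a b ha hb =>
    obtain ⟨x, rfl⟩ := ha
    obtain ⟨y, rfl⟩ := hb
    exact ⟨x + y, map_add _ _ _⟩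

theorem ker_toTensor : RingHom.ker (toTensor I L) = I.map (MvPolynomial.map (algebraMap A L)) := by
  refine le_antisymm (fun x hx => ?_) (Ideal.map_le_iff_le_comap.2 fun p hp => ?_)
  · let I' := I.map (MvPolynomial.map (σ := σ) (algebraMap A L))
    let g : (MvPolynomial σ A ⧸ I) →ₐ[A] MvPolynomial σ L ⧸ I' :=
      Ideal.Quotient.liftₐ I ((Ideal.Quotient.mkₐ A I').comp (mapAlgHom (Algebra.ofId A L))) fun p hp =>
        Ideal.Quotient.eq_zero_iff_mem.2 (Ideal.mem_map_of_mem (MvPolynomial.map (algebraMap A L)) hp)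
    let Φ : L ⊗[A] (MvPolynomial σ A ⧸ I) →ₐ[L] MvPolynomial σ L ⧸ I' :=
      Algebra.TensorProduct.lift (Algebra.ofId L _) g fun _ _ => Commute.all _ _
    have h : Φ.comp (toTensor I L) = Ideal.Quotient.mkₐ L I' := algHom_ext fun i => by
      simp only [AlgHom.comp_apply, toTensor, aeval_X, Φ, Algebra.TensorProduct.lift_tmul, map_one, one_mul,
        Ideal.Quotient.mkₐ_eq_mk]
      exact congrArg (Ideal.Quotient.mk I') (map_X _ i)
    have h0 := AlgHom.congr_fun h x
    rw [AlgHom.comp_apply, RingHom.mem_ker.1 hx, map_zero] at h0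
    exact Ideal.Quotient.eq_zero_iff_mem.1 h0.symm
  · rw [Ideal.mem_comap, RingHom.mem_ker, toTensor_map, Ideal.Quotient.eq_zero_iff_mem.2 hp, TensorProduct.tmul_zero]

theorem isReduced_tensor_iff :
    _root_.IsReduced (L ⊗[A] (MvPolynomial σ A ⧸ I)) ↔ (I.map (MvPolynomial.map (algebraMap A L))).IsRadical := by
  refine ⟨fun h x ⟨n, hn⟩ => ?_, fun h => ⟨fun z ⟨n, hn⟩ => ?_⟩⟩
  · rw [← ker_toTensor, RingHom.mem_ker] at hn ⊢
    exact h.eq_zero _ ⟨n, ((toTensor I L).toRingHom.map_pow x n).symm.trans hn⟩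
  · obtain ⟨x, rfl⟩ := toTensor_surjective I L z
    replace hn : x ^ n ∈ RingHom.ker (toTensor I L) := ((toTensor I L).toRingHom.map_pow x n).trans hn
    rw [ker_toTensor] at hn
    refine (RingHom.mem_ker (f := toTensor I L) (r := x)).1 ?_
    rw [ker_toTensor]
    exact h ⟨n, hn⟩

end tensor

/-- A finite map of coefficients gives a finite map of polynomial rings. -/
theorem finite_map {A C : Type u} [CommRing A] [CommRing C] (f : A →+* C) (hf : f.Finite) :
    (MvPolynomial.map (σ := σ) f).Finite := by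
  classical
  letI := f.toAlgebra
  haveI : Module.Finite A C := hf
  obtain ⟨s, hs⟩ := Module.Finite.fg_top (R := A) (M := C)
  letI := (MvPolynomial.map (σ := σ) f).toAlgebra
  refine ⟨⟨s.image MvPolynomial.C, Submodule.eq_top_iff'.2 fun p => ?_⟩⟩
  induction p using MvPolynomial.induction_on' with
  | monomial d a =>
    have ha : a ∈ Submodule.span A (s : Set C) := hs ▸ Submodule.mem_top
    induction ha using Submodule.span_induction with
    | mem a ha =>
      rw [show monomial d a = (monomial d (1 : A) : MvPolynomial σ A) • (MvPolynomial.C a : MvPolynomial σ C) by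
        show _ = MvPolynomial.map f (monomial d 1) * _
        rw [map_monomial, map_one, mul_comm, C_mul_monomial, mul_one]]
      exact Submodule.smul_mem _ _ (Submodule.subset_span (Finset.mem_coe.2 (Finset.mem_image_of_mem _ ha)))
    | zero => rw [map_zero]; exact zero_mem _
    | add a b _ _ ha hb => rw [map_add]; exact add_mem ha hb
    | smul c a _ ha =>
      rw [show monomial d (c • a) = (MvPolynomial.C c : MvPolynomial σ A) • (monomial d a : MvPolynomial σ C) by
        show _ = MvPolynomial.map f (MvPolynomial.C c) * _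
        rw [map_C, C_mul_monomial]; rfl]
      exact Submodule.smul_mem _ _ ha
  | add p q hp hq => exact add_mem hp hq

end Groth.Agent.Calg46.RadBound
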