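import Groth.Agent.Calg46.RadBound.Basic
import Groth.Agent.S0389

/-!
A uniform degree bound for kernels of base changes (elimination).
-/

set_option autoImplicit false
set_option linter.style.haveILetI false

universe u

open MvPolynomial TensorProduct

namespace Groth.Agent.Calg46.RadBound

variable {N : ℕ} {A : Type u} [CommRing A] {B : Type u} [CommRing B] [Algebra A B]

/-- The base change of `χ` to a field. -/
noncomputable def theta (χ : MvPolynomial (Fin N) A →ₐ[A] B) (k : Type u) [CommRing k] [Algebra A k] :
    MvPolynomial (Fin N) k →ₐ[k] k ⊗[A] B :=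
  aeval fun i => (1 : k) ⊗ₜ[A] χ (X i)

theorem theta_map (χ : MvPolynomial (Fin N) A →ₐ[A] B) (k : Type u) [CommRing k] [Algebra A k]
    (p : MvPolynomial (Fin N) A) : theta χ k (MvPolynomial.map (algebraMap A k) p) = (1 : k) ⊗ₜ[A] χ p := by
  have h : ((theta χ k).restrictScalars A).comp (mapAlgHom (Algebra.ofId A k)) =
      (Algebra.TensorProduct.includeRight).comp χ := algHom_ext fun i => by simp [theta]
  exact AlgHom.congr_fun h p

theorem elim_generic [IsDomain A] (χ : MvPolynomial (Fin N) A →ₐ[A] B) (hχ : χ.toRingHom.Finite)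
    [IsNoetherianRing A] :
    ∃ c : A, c ≠ 0 ∧ ∃ D, ∀ (k : Type u) [Field k] [Algebra A k], algebraMap A k c ≠ 0 →
      Bounded D (RingHom.ker (theta χ k)) := by
  letI := χ.toRingHom.toAlgebra
  haveI : IsScalarTower A (MvPolynomial (Fin N) A) B := IsScalarTower.of_algebraMap_eq fun a => (χ.commutes a).symm
  haveI : Module.Finite (MvPolynomial (Fin N) A) B := hχ
  let R0 : Submodule (MvPolynomial (Fin N) A) B := LinearMap.range (Algebra.linearMap (MvPolynomial (Fin N) A) B)
  obtain ⟨c, hc, hfree, -⟩ :=
    Groth.Agent.S0389.result (R := A) (S := MvPolynomial (Fin N) A) (M := B ⧸ R0)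
  obtain ⟨D, hD⟩ := bounded_map_of_fg (IsNoetherian.noetherian (RingHom.ker χ : Ideal (MvPolynomial (Fin N) A)))
  refine ⟨c, hc, D, fun k _ _ hck => ?_⟩
  suffices hker : RingHom.ker (theta χ k) = (RingHom.ker χ).map (MvPolynomial.map (algebraMap A k)) by
    rw [hker]; exact hD k (algebraMap A k)
  refine le_antisymm (fun p hp => ?_) (Ideal.map_le_iff_le_comap.2 fun p hp => ?_)
  · let Ac := Localization.Away c
    haveI := hfree
    haveI : Module.Flat A (Ac ⊗[A] (B ⧸ R0)) := Module.Flat.trans A Ac _
    let q : MvPolynomial (Fin N) A →ₗ[A] B := χ.toLinearMap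
    let g : B →ₗ[A] B ⧸ R0 := R0.mkQ.restrictScalars A
    let i : LinearMap.range q →ₗ[A] B := (LinearMap.range q).subtype
    have hex : Function.Exact i g := fun b => by
      constructor
      · intro hb
        obtain ⟨x, hx⟩ := (Submodule.Quotient.mk_eq_zero R0).1 hb
        exact ⟨⟨b, x, hx⟩, rfl⟩
      · rintro ⟨⟨b, x, rfl⟩, rfl⟩
        exact (Submodule.Quotient.mk_eq_zero R0).2 ⟨x, rfl⟩
    have hgsurj : Function.Surjective g := R0.mkQ_surjective
    have hj : Function.Injective ((i.lTensor Ac).lTensor k) :=
      LinearMap.lTensor_injective_of_exact_of_flat (g.lTensor Ac) (LinearMap.lTensor_surjective Ac hgsurj)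
        (i.lTensor Ac) (Module.Flat.lTensor_preserves_injective_linearMap i (Submodule.subtype_injective _))
        (lTensor_exact Ac hex hgsurj) k
    let ψ : Ac →ₐ[A] k := IsLocalization.liftAlgHom (M := Submonoid.powers c) (f := Algebra.ofId A k)
      (by
        rintro ⟨_, n, rfl⟩
        simpa using (IsUnit.mk0 _ hck).pow n)
    let μ : k ⊗[A] Ac →ₗ[A] k := (Algebra.TensorProduct.productMap (AlgHom.id A k) ψ).toLinearMap
    have hinj : Function.Injective (i.lTensor k) := by
      let m1 : LinearMap.range q →ₗ[A] Ac ⊗[A] LinearMap.range q := TensorProduct.mk A Ac _ 1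
      let m2 : B →ₗ[A] Ac ⊗[A] B := TensorProduct.mk A Ac _ 1
      have hcomm : (m2.lTensor k).comp (i.lTensor k) = ((i.lTensor Ac).lTensor k).comp (m1.lTensor k) := by
        rw [← LinearMap.lTensor_comp, ← LinearMap.lTensor_comp]
        rfl
      have hm1 : Function.Injective (m1.lTensor k) := by
        let ρ := (μ.rTensor (LinearMap.range q)).comp (TensorProduct.assoc A k Ac (LinearMap.range q)).symm.toLinearMap
        have hρ : ρ.comp (m1.lTensor k) = LinearMap.id := TensorProduct.ext' fun a x => by
          simp [ρ, m1, μ]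
        exact Function.LeftInverse.injective (g := ρ) fun x => LinearMap.congr_fun hρ x
      have hcomp : Function.Injective (((i.lTensor Ac).lTensor k).comp (m1.lTensor k)) := hj.comp hm1
      rw [← hcomm] at hcomp
      exact Function.Injective.of_comp hcomp
    let e := MvPolynomial.algebraTensorAlgEquiv (σ := Fin N) A k
    have hθ : ∀ w, theta χ k (e w) = q.lTensor k w := fun w => by
      induction w using TensorProduct.induction_on with
      | zero => rw [map_zero, map_zero, map_zero]
      | tmul a x =>
        rw [MvPolynomial.algebraTensorAlgEquiv_tmul, map_smul, theta_map, TensorProduct.smul_tmul', smul_eq_mul,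
          mul_one]
        rfl
      | add x y hx hy => rw [map_add, map_add, hx, hy, map_add]
    obtain ⟨w, rfl⟩ := e.surjective p
    have h1 : q.lTensor k w = 0 := (hθ w).symm.trans hp
    have h2 : q.rangeRestrict.lTensor k w = 0 := hinj (by
      rw [← LinearMap.comp_apply, ← LinearMap.lTensor_comp, map_zero]
      exact h1)
    obtain ⟨z, rfl⟩ := (lTensor_exact k (f := (LinearMap.ker q).subtype) (g := q.rangeRestrict)
      (fun x => by
        simp only [Submodule.coe_subtype, Subtype.range_coe_subtype, LinearMap.mem_ker, Set.mem_ofPred_eq]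
        exact Subtype.ext_iff) q.surjective_rangeRestrict w).1 h2
    clear h1 h2 hp
    induction z using TensorProduct.induction_on with
    | zero => rw [map_zero, map_zero]; exact zero_mem _
    | tmul a x =>
      rw [LinearMap.lTensor_tmul, MvPolynomial.algebraTensorAlgEquiv_tmul, MvPolynomial.smul_eq_C_mul]
      exact Ideal.mul_mem_left _ _ (Ideal.mem_map_of_mem _ x.2)
    | add x y hx hy => rw [map_add, map_add]; exact add_mem hx hy
  · rw [Ideal.mem_comap, RingHom.mem_ker, theta_map, RingHom.mem_ker.1 hp, TensorProduct.tmul_zero]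

/-- The elimination bound. -/
theorem exists_elim_bound [IsNoetherianRing A] (χ : MvPolynomial (Fin N) A →ₐ[A] B) (hχ : χ.toRingHom.Finite) :
    ∃ D, ∀ (k : Type u) [Field k] [Algebra A k], Bounded D (RingHom.ker (theta χ k)) := by
  refine exists_bound (fun D k _ _ => Bounded D (RingHom.ker (theta χ k))) (fun D D' h k _ _ => Bounded.mono h) ?_
  intro p hp
  let A' := A ⧸ p
  let B' := A' ⊗[A] B
  let χ' : MvPolynomial (Fin N) A' →ₐ[A'] B' := aeval fun i => (1 : A') ⊗ₜ[A] χ (X i)
  have hsurj : Function.Surjective (Algebra.TensorProduct.includeRight : B →ₐ[A] B') :=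
    TensorProduct.mk_surjective A B A' Ideal.Quotient.mk_surjective
  have hfin : χ'.toRingHom.Finite := by
    refine RingHom.Finite.of_comp_finite (f := MvPolynomial.map (algebraMap A A')) ?_
    have h : (χ'.toRingHom).comp (MvPolynomial.map (algebraMap A A')) =
        (Algebra.TensorProduct.includeRight : B →ₐ[A] B').toRingHom.comp χ.toRingHom :=
      RingHom.ext fun x => theta_map χ A' x
    rw [h]
    exact (RingHom.Finite.of_surjective _ hsurj).comp hχ
  obtain ⟨c, hc, D, hD⟩ := elim_generic χ' hfin
  obtain ⟨c, rfl⟩ := Ideal.Quotient.mk_surjective c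
  refine ⟨c, fun h => hc (Ideal.Quotient.eq_zero_iff_mem.2 h), D, fun k _ _ hk hck => ?_⟩
  letI : Algebra A' k := (Ideal.Quotient.lift p (algebraMap A k) fun a ha => hk ha).toAlgebra
  haveI : IsScalarTower A A' k := IsScalarTower.of_algebraMap_eq fun a => rfl
  have h := hD k hck
  let Φ := Algebra.TensorProduct.cancelBaseChange A A' k k B
  have hΦ : theta χ k = Φ.toAlgHom.comp (theta χ' k) := algHom_ext fun i => by
    simp [theta, χ', Φ]
    erw [Algebra.TensorProduct.cancelBaseChange_tmul, one_smul]
  have hker : RingHom.ker (theta χ k) = RingHom.ker (theta χ' k) := by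
    ext x
    rw [RingHom.mem_ker, RingHom.mem_ker, hΦ, AlgHom.comp_apply]
    exact map_eq_zero_iff _ Φ.injective
  rw [hker]
  exact h

end Groth.Agent.Calg46.RadBound
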