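import Groth.Agent.Calg46.RadBound.Elim

/-!
The universal residue extension of a finite algebra.
-/

set_option autoImplicit false
set_option linter.style.haveILetI false
set_option maxSynthPendingDepth 4

universe u

open MvPolynomial TensorProduct

namespace Groth.Agent.Calg46.RadBound

variable {N n r : ℕ} {A : Type u} [CommRing A] {A1 : Type u} [CommRing A1] [Algebra A A1]

/-- Parameters for a maximal ideal of a fibre. -/
abbrev Pm (A : Type u) [CommRing A] (r : ℕ) : Type u := MvPolynomial (Fin r × Fin r) A

/-- The relations `Σ_j λ_{lj} a_j`. -/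
noncomputable def relIdeal (a : Fin r → A1) : Ideal (MvPolynomial (Fin r × Fin r) A1) :=
  Ideal.span (Set.range fun l => ∑ j, X (l, j) * MvPolynomial.C (a j))

/-- The universal residue ring. -/
abbrev PRing (a : Fin r → A1) : Type u := MvPolynomial (Fin r × Fin r) A1 ⧸ relIdeal a

/-- The structure map from `A1`. -/
noncomputable def iota (a : Fin r → A1) : A1 →+* PRing a :=
  (Ideal.Quotient.mk (relIdeal a)).comp MvPolynomial.C

/-- The structure map from the parameters. -/
noncomputable def toP (A : Type u) [CommRing A] [Algebra A A1] (a : Fin r → A1) : Pm A r →+* PRing a :=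
  (Ideal.Quotient.mk (relIdeal a)).comp (MvPolynomial.map (algebraMap A A1))

/-- The universal ideal. -/
noncomputable def gIdeal (g : Fin n → MvPolynomial (Fin N) A1) (a : Fin r → A1) :
    Ideal (MvPolynomial (Fin N) (PRing a)) :=
  Ideal.span (Set.range fun l => MvPolynomial.map (iota a) (g l))

/-- The universal quotient. -/
abbrev PQuot (g : Fin n → MvPolynomial (Fin N) A1) (a : Fin r → A1) : Type u :=
  MvPolynomial (Fin N) (PRing a) ⧸ gIdeal g a

/-- `PQuot` over the parameters. -/
@[instance_reducible]
noncomputable def algPQuot (g : Fin n → MvPolynomial (Fin N) A1) (a : Fin r → A1) :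
    Algebra (Pm A r) (PQuot g a) :=
  ((Ideal.Quotient.mk (gIdeal g a)).comp (MvPolynomial.C.comp (toP A a))).toAlgebra

attribute [local instance] algPQuot

/-- The module structure underlying `algPQuot`. -/
@[instance_reducible]
noncomputable def modPQuot (g : Fin n → MvPolynomial (Fin N) A1) (a : Fin r → A1) :
    Module (Pm A r) (PQuot g a) :=
  (algPQuot g a).toModule

attribute [local instance] modPQuot

/-- The quotient map. -/
noncomputable def chi (g : Fin n → MvPolynomial (Fin N) A1) (a : Fin r → A1) :
    MvPolynomial (Fin N) (Pm A r) →ₐ[Pm A r] PQuot g a :=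
  { (Ideal.Quotient.mk (gIdeal g a)).comp (MvPolynomial.map (toP A a)) with
    commutes' := fun x => congrArg (Ideal.Quotient.mk (gIdeal g a)) (map_C (toP A a) x) }

theorem chi_apply (g : Fin n → MvPolynomial (Fin N) A1) (a : Fin r → A1) (x : MvPolynomial (Fin N) (Pm A r)) :
    chi g a x = Ideal.Quotient.mk (gIdeal g a) (MvPolynomial.map (toP A a) x) := rfl

theorem chi_finite [Module.Finite A A1] (g : Fin n → MvPolynomial (Fin N) A1) (a : Fin r → A1) :
    (chi (A := A) g a).toRingHom.Finite := by
  have h1 : (toP A a).Finite :=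
    (RingHom.Finite.of_surjective _ Ideal.Quotient.mk_surjective).comp
      (finite_map (algebraMap A A1) (RingHom.finite_algebraMap.2 inferInstance))
  exact (RingHom.Finite.of_surjective _ (Ideal.Quotient.mk_surjective (I := gIdeal g a))).comp (finite_map _ h1)

/-- The kernel of the fibre of the universal quotient, for a residue extension `k1` presented by the
parameters. -/
theorem ker_theta_chi (g : Fin n → MvPolynomial (Fin N) A1) (a : Fin r → A1)
    (k : Type u) [CommRing k] [Algebra (Pm A r) k] (k1 : Type u) [CommRing k1] [Algebra k k1] [Algebra A1 k1]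
    (hcompat : ∀ x : A, algebraMap A1 k1 (algebraMap A A1 x) =
      algebraMap k k1 (algebraMap (Pm A r) k (MvPolynomial.C x)))
    (hrel : ∀ l, ∑ j, algebraMap k k1 (algebraMap (Pm A r) k (X (l, j))) * algebraMap A1 k1 (a j) = 0)
    (hlift : ∀ (T : Type u) [CommRing T] (s : k →+* T) (t : A1 →+* T),
      (∀ x : A, t (algebraMap A A1 x) = s (algebraMap (Pm A r) k (MvPolynomial.C x))) →
      (∀ l, ∑ j, s (algebraMap (Pm A r) k (X (l, j))) * t (a j) = 0) →
      ∃ h : k1 →+* T, (∀ x, h (algebraMap k k1 x) = s x) ∧ ∀ y, h (algebraMap A1 k1 y) = t y)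
    (x : MvPolynomial (Fin N) k) :
    x ∈ RingHom.ker (theta (chi (A := A) g a) k) ↔
      MvPolynomial.map (algebraMap k k1) x ∈
        (Ideal.span (Set.range g)).map (MvPolynomial.map (algebraMap A1 k1)) := by
  let χ := chi (A := A) g a
  let T := k ⊗[Pm A r] PQuot g a
  let iB : PQuot g a →+* T := (Algebra.TensorProduct.includeRight : PQuot g a →ₐ[Pm A r] T).toRingHom
  let cB : PRing a →+* PQuot g a := (Ideal.Quotient.mk (gIdeal g a)).comp MvPolynomial.C
  have hiB : ∀ p : Pm A r, iB (cB (toP A a p)) = algebraMap k T (algebraMap (Pm A r) k p) := fun p =>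
    ((Algebra.TensorProduct.includeRight : PQuot g a →ₐ[Pm A r] T).commutes p).trans rfl
  have hmkC : ∀ y : A, toP A a (MvPolynomial.C y) = iota a (algebraMap A A1 y) := fun y =>
    congrArg (Ideal.Quotient.mk (relIdeal a)) (map_C (algebraMap A A1) y)
  have hmkX : ∀ q, toP A a (X q) = Ideal.Quotient.mk (relIdeal a) (X q) := fun q =>
    congrArg (Ideal.Quotient.mk (relIdeal a)) (map_X (algebraMap A A1) q)
  obtain ⟨hbar, hb1, hb2⟩ := hlift T (algebraMap k T) (iB.comp (cB.comp (iota a)))
    (fun y => by
      rw [← hiB, hmkC]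
      rfl)
    (fun l => by
      have h0 : iB (cB (Ideal.Quotient.mk (relIdeal a) (∑ j, X (l, j) * MvPolynomial.C (a j)))) = 0 := by
        rw [(Ideal.Quotient.eq_zero_iff_mem (I := relIdeal a)).2 (Ideal.subset_span (Set.mem_range_self l)), map_zero, map_zero]
      simp only [map_sum, map_mul] at h0
      simp only [← hiB, hmkX]
      exact h0)
  constructor
  · intro hx
    let ev : MvPolynomial (Fin r × Fin r) A1 →+* k1 :=
      eval₂Hom (algebraMap A1 k1) fun q => algebraMap k k1 (algebraMap (Pm A r) k (X q))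
    have hev : relIdeal a ≤ RingHom.ker ev := by
      rw [relIdeal, Ideal.span_le]
      rintro _ ⟨l, rfl⟩
      simp only [SetLike.mem_coe, RingHom.mem_ker, map_sum, map_mul, ev, eval₂Hom_X', eval₂Hom_C]
      exact hrel l
    let evb : PRing a →+* k1 := Ideal.Quotient.lift (relIdeal a) ev fun y hy => hev hy
    let I1 := (Ideal.span (Set.range g)).map (MvPolynomial.map (σ := Fin N) (algebraMap A1 k1))
    have he : evb.comp (iota a) = algebraMap A1 k1 := RingHom.ext fun y => eval₂Hom_C _ _ y
    have hp : gIdeal g a ≤ RingHom.ker ((Ideal.Quotient.mk I1).comp (MvPolynomial.map evb)) := by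
      rw [gIdeal, Ideal.span_le]
      rintro _ ⟨l, rfl⟩
      rw [SetLike.mem_coe, RingHom.mem_ker, RingHom.comp_apply, MvPolynomial.map_map, he,
        Ideal.Quotient.eq_zero_iff_mem]
      exact Ideal.mem_map_of_mem _ (Ideal.subset_span (Set.mem_range_self l))
    let pB : PQuot g a →+* MvPolynomial (Fin N) k1 ⧸ I1 :=
      Ideal.Quotient.lift (gIdeal g a) ((Ideal.Quotient.mk I1).comp (MvPolynomial.map evb)) fun y hy => hp hy
    have hev' : evb.comp (toP A a) = (algebraMap k k1).comp (algebraMap (Pm A r) k) := by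
      refine ringHom_ext (fun y => ?_) fun q => ?_
      · rw [RingHom.comp_apply, hmkC, ← RingHom.comp_apply, he]
        exact hcompat y
      · rw [RingHom.comp_apply, hmkX]
        exact eval₂Hom_X' _ _ _
    letI : Algebra (Pm A r) (MvPolynomial (Fin N) k1 ⧸ I1) :=
      ((algebraMap k (MvPolynomial (Fin N) k1 ⧸ I1)).comp (algebraMap (Pm A r) k)).toAlgebra
    haveI : IsScalarTower (Pm A r) k (MvPolynomial (Fin N) k1 ⧸ I1) := IsScalarTower.of_algebraMap_eq fun _ => rfl
    let pBA : PQuot g a →ₐ[Pm A r] MvPolynomial (Fin N) k1 ⧸ I1 :=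
      { pB with
        commutes' := fun y => by
          show Ideal.Quotient.mk I1 (MvPolynomial.map evb (MvPolynomial.C (toP A a y))) =
            Ideal.Quotient.mk I1 (MvPolynomial.C (algebraMap k k1 (algebraMap (Pm A r) k y)))
          rw [map_C, ← RingHom.comp_apply (algebraMap k k1), ← hev', RingHom.comp_apply] }
    let Φ : T →ₐ[k] MvPolynomial (Fin N) k1 ⧸ I1 :=
      Algebra.TensorProduct.lift (Algebra.ofId k _) pBA fun _ _ => Commute.all _ _
    have h : Φ.comp (theta χ k) = (Ideal.Quotient.mkₐ k I1).comp (mapAlgHom (Algebra.ofId k k1)) := by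
      refine algHom_ext fun i => ?_
      simp only [AlgHom.comp_apply, theta, aeval_X]
      refine (((Algebra.TensorProduct.lift_tmul _ _ _ _ _).trans (by rw [map_one, one_mul])) :
        Φ ((1 : k) ⊗ₜ[Pm A r] χ (X i)) = pBA (χ (X i))).trans ?_
      show Ideal.Quotient.mk I1 (MvPolynomial.map evb (MvPolynomial.map (toP A a) (X i))) = _
      rw [map_X, map_X]
      exact congrArg (Ideal.Quotient.mk I1) (map_X (algebraMap k k1) i).symm
    have h1 := AlgHom.congr_fun h x
    rw [AlgHom.comp_apply, RingHom.mem_ker.1 hx, map_zero] at h1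
    exact Ideal.Quotient.eq_zero_iff_mem.1 h1.symm
  · intro hx
    let G : MvPolynomial (Fin N) k1 →+* T := eval₂Hom hbar fun i => (1 : k) ⊗ₜ[Pm A r] χ (X i)
    have hG : G.comp (MvPolynomial.map (algebraMap k k1)) = (theta χ k).toRingHom := by
      refine ringHom_ext (fun y => ?_) fun i => ?_
      · simp only [RingHom.comp_apply, map_C, G, eval₂Hom_C, hb1]
        exact ((theta χ k).commutes y).symm
      · simp [G, theta]
    have hGg : G.comp (MvPolynomial.map (algebraMap A1 k1)) =
        iB.comp ((Ideal.Quotient.mk (gIdeal g a)).comp (MvPolynomial.map (iota a))) := by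
      refine ringHom_ext (fun y => ?_) fun i => ?_
      · simp only [RingHom.comp_apply, map_C, G, eval₂Hom_C, hb2]
        rfl
      · simp only [RingHom.comp_apply, map_X, G, eval₂Hom_X']
        show iB (χ (X i)) = iB _
        rw [chi_apply, map_X]
    have hker : (Ideal.span (Set.range g)).map (MvPolynomial.map (algebraMap A1 k1)) ≤ RingHom.ker G := by
      rw [Ideal.map_span, Ideal.span_le]
      rintro _ ⟨_, ⟨l, rfl⟩, rfl⟩
      rw [SetLike.mem_coe, RingHom.mem_ker, ← RingHom.comp_apply, hGg, RingHom.comp_apply, RingHom.comp_apply,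
        (Ideal.Quotient.eq_zero_iff_mem (I := gIdeal g a)).2 (Ideal.subset_span (Set.mem_range_self l)), map_zero]
    have h1 := hker hx
    rw [RingHom.mem_ker, ← RingHom.comp_apply, hG] at h1
    exact h1

end Groth.Agent.Calg46.RadBound
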