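import Groth.Agent.Calg46.RadBound.Radical
import Groth.Agent.Calg46.RadBound.Param

/-!
The degree bound for radicals, uniform in a field-valued parameter.
-/

set_option autoImplicit false
set_option linter.style.haveILetI false

universe u

open MvPolynomial TensorProduct

namespace Groth.Agent.Calg46.RadBound

set_option maxSynthPendingDepth 4

attribute [local instance] algPQuot modPQuot

variable {N M : ℕ} {A : Type u} [CommRing A]

/-- A finite injective extension has a point over every field-valued point. -/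
theorem nontrivial_tensor {A1 : Type u} [CommRing A1] [Algebra A A1] [Module.Finite A A1]
    (hinj : Function.Injective (algebraMap A A1)) (k : Type u) [Field k] [Algebra A k] :
    Nontrivial (k ⊗[A] A1) := by
  obtain ⟨p, hpk⟩ : ∃ p : PrimeSpectrum A, p.asIdeal = RingHom.ker (algebraMap A k) :=
    ⟨⟨RingHom.ker (algebraMap A k), RingHom.ker_isPrime _⟩, rfl⟩
  have hp : p ∈ Module.support A A1 := by
    rw [Module.support_eq_zeroLocus, PrimeSpectrum.mem_zeroLocus]
    intro x hx
    have h1 : x • (1 : A1) = 0 := Module.mem_annihilator.1 hx 1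
    rw [Algebra.smul_def, mul_one] at h1
    rw [hinj (h1.trans (map_zero _).symm)]
    exact zero_mem p.asIdeal
  haveI := (Module.mem_support_iff_nontrivial_residueField_tensorProduct p).1 hp
  let K := p.asIdeal.ResidueField
  let ρ : K →ₐ[A] k := Ideal.ResidueField.liftₐ p.asIdeal (Algebra.ofId A k) (fun x hx => by rw [hpk] at hx; exact hx)
    fun x hx => by
      refine isUnit_iff_ne_zero.2 fun h => hx ?_
      show x ∈ p.asIdeal
      rw [hpk]
      exact RingHom.mem_ker.2 h
  letI : Algebra K k := ρ.toRingHom.toAlgebra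
  haveI : IsScalarTower A K k := IsScalarTower.of_algebraMap_eq fun x => (ρ.commutes x).symm
  haveI : Nontrivial (k ⊗[K] (K ⊗[A] A1)) := Module.FaithfullyFlat.lTensor_nontrivial K k _
  exact (Algebra.TensorProduct.cancelBaseChange A K k k A1).symm.toEquiv.nontrivial

theorem exists_padded_family {k S : Type u} [Field k] [AddCommGroup S] [Module k S] {r : ℕ} (w : Fin r → S)
    (hw : Submodule.span k (Set.range w) = ⊤) (W : Submodule k S) :
    ∃ v : Fin r → S, Submodule.span k (Set.range v) = W := by
  classical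
  haveI : Module.Finite k S := .of_fg_top (hw ▸ Submodule.fg_span (Set.finite_range _))
  let b := Module.finBasis k W
  have hq : Module.finrank k W ≤ r := by
    refine (Submodule.finrank_le _).trans ?_
    have h := finrank_range_le_card (R := k) w
    rw [Set.finrank, hw, finrank_top, Fintype.card_fin] at h
    exact h
  refine ⟨fun i => if h : (i : ℕ) < Module.finrank k W then (b ⟨i, h⟩ : S) else 0,
    le_antisymm (Submodule.span_le.2 ?_) fun z hz => ?_⟩
  · rintro _ ⟨i, rfl⟩
    dsimp only
    split_ifs with h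
    · exact (b ⟨i, h⟩).2
    · exact zero_mem _
  · have hz' : (⟨z, hz⟩ : W) ∈ Submodule.span k (Set.range b) := by rw [b.span_eq]; trivial
    obtain ⟨c, hc⟩ := (Submodule.mem_span_range_iff_exists_fun k).1 hz'
    have hc' := congrArg Subtype.val hc
    simp only [Submodule.coe_sum, Submodule.coe_smul] at hc'
    rw [← hc']
    refine Submodule.sum_mem _ fun i _ => Submodule.smul_mem _ _ (Submodule.subset_span ⟨Fin.castLE hq i, ?_⟩)
    simp [Fin.castLE, i.2]

theorem radical_generic [IsDomain A] [IsNoetherianRing A] (f : Fin M → MvPolynomial (Fin N) A) :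
    ∃ c : A, c ≠ 0 ∧ ∃ D, ∀ (k : Type u) [Field k] [Algebra A k], algebraMap A k c ≠ 0 →
      Bounded D (spanImg f k).radical := by
  classical
  obtain ⟨A1, hA1, hA1alg, n, g, hA1fin, hinj, c, hc, hfam⟩ := exists_family f
  obtain ⟨r, a, ha⟩ := Module.Finite.exists_fin (R := A) (M := A1)
  obtain ⟨D, hD⟩ := exists_elim_bound (chi (A := A) g a) (chi_finite (A := A) g a)
  refine ⟨c, hc, D, fun k _ _ hck => ?_⟩
  -- the residue extension
  let S0 := k ⊗[A] A1
  haveI : Nontrivial S0 := nontrivial_tensor hinj k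
  obtain ⟨𝔪, h𝔪⟩ := Ideal.exists_maximal S0
  haveI := h𝔪
  letI : Field (S0 ⧸ 𝔪) := Ideal.Quotient.field 𝔪
  let k1 := S0 ⧸ 𝔪
  let j1 : A1 →+* k1 := (Ideal.Quotient.mk 𝔪).comp (Algebra.TensorProduct.includeRight : A1 →ₐ[A] S0).toRingHom
  letI : Algebra A1 k1 := j1.toAlgebra
  have hj1 : ∀ x : A, j1 (algebraMap A A1 x) = algebraMap k k1 (algebraMap A k x) := fun x => by
    show Ideal.Quotient.mk 𝔪 (Algebra.TensorProduct.includeRight (R := A) (A := k) (algebraMap A A1 x)) =
      Ideal.Quotient.mk 𝔪 (algebraMap k S0 (algebraMap A k x))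
    rw [AlgHom.commutes]
    rfl
  obtain ⟨hrad, hgf⟩ := hfam k1 (by
    show j1 (algebraMap A A1 c) ≠ 0
    rw [hj1]
    exact fun h0 => hck ((algebraMap k k1).injective (h0.trans (map_zero _).symm)))
  -- parameters of the maximal ideal
  let w : Fin r → S0 := fun j => (1 : k) ⊗ₜ[A] a j
  have hspan : Submodule.span k (Set.range w) = ⊤ := by
    refine Submodule.eq_top_iff'.2 fun z => ?_
    induction z using TensorProduct.induction_on with
    | zero => exact zero_mem _
    | tmul x y =>
      obtain ⟨e, rfl⟩ := (Submodule.mem_span_range_iff_exists_fun A).1 (ha ▸ Submodule.mem_top : y ∈ Submodule.span A (Set.range a))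
      rw [TensorProduct.tmul_sum]
      refine Submodule.sum_mem _ fun j _ => ?_
      rw [show x ⊗ₜ[A] (e j • a j) = (e j • x) • w j by
        rw [TensorProduct.smul_tmul', smul_eq_mul, mul_one, TensorProduct.smul_tmul]]
      exact Submodule.smul_mem _ _ (Submodule.subset_span ⟨j, rfl⟩)
    | add x y hx hy => exact add_mem hx hy
  obtain ⟨v, hv⟩ := exists_padded_family w hspan (𝔪.restrictScalars k)
  have hlam : ∀ l, ∃ e : Fin r → k, ∑ j, e j • w j = v l := fun l =>
    (Submodule.mem_span_range_iff_exists_fun k).1 (hspan ▸ Submodule.mem_top)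
  choose lam hlam using hlam
  letI alg2 : Algebra (Pm A r) k := (aeval (R := A) fun x : Fin r × Fin r => lam x.1 x.2).toRingHom.toAlgebra
  have halg2 : ∀ l j, algebraMap (Pm A r) k (X (l, j)) = lam l j := fun l j => aeval_X _ (l, j)
  have halg2C : ∀ x : A, algebraMap (Pm A r) k (MvPolynomial.C x) = algebraMap A k x := fun x => aeval_C _ x
  have hcompat : ∀ x : A, algebraMap A1 k1 (algebraMap A A1 x) =
      algebraMap k k1 (algebraMap (Pm A r) k (MvPolynomial.C x)) := fun x => by rw [halg2C]; exact hj1 x
  have hrel : ∀ l, ∑ j, algebraMap k k1 (algebraMap (Pm A r) k (X (l, j))) * algebraMap A1 k1 (a j) = 0 := fun l => by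
    have h1 : Ideal.Quotient.mk 𝔪 (v l) = 0 := Ideal.Quotient.eq_zero_iff_mem.2 (by
      have : v l ∈ 𝔪.restrictScalars k := hv ▸ Submodule.subset_span ⟨l, rfl⟩
      exact this)
    rw [← h1, ← hlam l, map_sum]
    refine Finset.sum_congr rfl fun j _ => ?_
    rw [halg2, Algebra.smul_def, map_mul]
    rfl
  have hlift : ∀ (T : Type u) [CommRing T] (s : k →+* T) (t : A1 →+* T),
      (∀ x : A, t (algebraMap A A1 x) = s (algebraMap (Pm A r) k (MvPolynomial.C x))) →
      (∀ l, ∑ j, s (algebraMap (Pm A r) k (X (l, j))) * t (a j) = 0) →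
      ∃ h : k1 →+* T, (∀ x, h (algebraMap k k1 x) = s x) ∧ ∀ y, h (algebraMap A1 k1 y) = t y := by
    intro T _ s t hst hzero
    letI : Algebra k T := s.toAlgebra
    letI : Algebra A T := (s.comp (algebraMap A k)).toAlgebra
    haveI : IsScalarTower A k T := IsScalarTower.of_algebraMap_eq fun _ => rfl
    let tA : A1 →ₐ[A] T := { t with commutes' := fun x => (hst x).trans (congrArg s (halg2C x)) }
    let h0 : S0 →ₐ[k] T := Algebra.TensorProduct.lift (Algebra.ofId k T) tA fun _ _ => Commute.all _ _
    have hw0 : ∀ j, h0 (w j) = t (a j) := fun j =>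
      (Algebra.TensorProduct.lift_tmul _ _ _ _ _).trans (by rw [map_one, one_mul]; rfl)
    have hv0 : ∀ l, h0 (v l) = 0 := fun l => by
      rw [← hlam l, map_sum, ← hzero l]
      refine Finset.sum_congr rfl fun j _ => ?_
      rw [map_smul, hw0, halg2, Algebra.smul_def]
      rfl
    have hm0 : 𝔪.restrictScalars k ≤ LinearMap.ker h0.toLinearMap := by
      rw [← hv, Submodule.span_le]
      rintro _ ⟨l, rfl⟩
      exact hv0 l
    refine ⟨Ideal.Quotient.lift 𝔪 h0.toRingHom fun z hz => hm0 hz, fun x => ?_, fun y => ?_⟩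
    · exact h0.commutes x
    · show h0 ((1 : k) ⊗ₜ[A] y) = t y
      exact (Algebra.TensorProduct.lift_tmul _ _ _ _ _).trans (by rw [map_one, one_mul]; rfl)
  have hker : RingHom.ker (theta (chi (A := A) g a) k) = (spanImg f k).radical := by
    ext x
    rw [ker_theta_chi g a k k1 hcompat hrel hlift x]
    show MvPolynomial.map (algebraMap k k1) x ∈ spanImg g k1 ↔ _
    have hff : spanImg (fun i => MvPolynomial.map (algebraMap A A1) (f i)) k1 =
        Ideal.span (Set.range fun i => MvPolynomial.map (algebraMap k k1) (MvPolynomial.map (algebraMap A k) (f i))) := by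
      rw [spanImg_eq]
      simp only [MvPolynomial.map_map]
      rw [show (algebraMap A1 k1).comp (algebraMap A A1) = (algebraMap k k1).comp (algebraMap A k) from RingHom.ext hj1]
    rw [hgf, hff]
    constructor
    · rintro ⟨s, hs⟩
      rw [← map_pow] at hs
      exact ⟨s, by rw [spanImg_eq]; exact mem_span_of_map_mem _ _ hs⟩
    · rintro ⟨s, hs⟩
      refine ⟨s, ?_⟩
      rw [← map_pow]
      have h1 := Ideal.mem_map_of_mem (MvPolynomial.map (σ := Fin N) (algebraMap k k1)) hs
      rw [spanImg_eq, Ideal.map_span, ← Set.range_comp] at h1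
      exact h1
  rw [← hker]
  exact hD k

/-- The uniform bound. -/
theorem exists_radical_bound [IsNoetherianRing A] (f : Fin M → MvPolynomial (Fin N) A) :
    ∃ D, ∀ (k : Type u) [Field k] [Algebra A k], Bounded D (spanImg f k).radical := by
  refine exists_bound (fun D k _ _ => Bounded D (spanImg f k).radical) (fun D D' h k _ _ => Bounded.mono h) ?_
  intro p hp
  let f' : Fin M → MvPolynomial (Fin N) (A ⧸ p) := fun i => MvPolynomial.map (algebraMap A (A ⧸ p)) (f i)
  obtain ⟨c, hc, D, hD⟩ := radical_generic f'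
  obtain ⟨c, rfl⟩ := Ideal.Quotient.mk_surjective c
  refine ⟨c, fun h => hc (Ideal.Quotient.eq_zero_iff_mem.2 h), D, fun k _ _ hk hck => ?_⟩
  letI : Algebra (A ⧸ p) k := (Ideal.Quotient.lift p (algebraMap A k) fun a ha => hk ha).toAlgebra
  haveI : IsScalarTower A (A ⧸ p) k := IsScalarTower.of_algebraMap_eq fun a => rfl
  have h := hD k hck
  have he : spanImg f' k = spanImg f k := by
    rw [spanImg_eq, spanImg_eq]
    simp only [f', MvPolynomial.map_map, ← IsScalarTower.algebraMap_eq]
  rw [he] at h
  exact h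

end Groth.Agent.Calg46.RadBound
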