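import Groth.Agent.Calg46.RadBound.Elim
import Groth.Agent.FlatMisc.SpreadGeomRed

/-!
A uniform degree bound for radicals.
-/

set_option autoImplicit false
set_option linter.style.haveILetI false

universe u

open MvPolynomial TensorProduct

namespace Groth.Agent.Calg46.RadBound

variable {N M : ℕ} {A : Type u} [CommRing A]

/-- The ideal generated by the images of `f`. -/
noncomputable abbrev spanImg {ι : Type*} (f : ι → MvPolynomial (Fin N) A) (k : Type u) [CommRing k] [Algebra A k] :
    Ideal (MvPolynomial (Fin N) k) :=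
  (Ideal.span (Set.range f)).map (MvPolynomial.map (algebraMap A k))

theorem spanImg_eq {ι : Type*} (f : ι → MvPolynomial (Fin N) A) (k : Type u) [CommRing k] [Algebra A k] :
    spanImg f k = Ideal.span (Set.range fun i => MvPolynomial.map (algebraMap A k) (f i)) := by
  rw [spanImg, Ideal.map_span, ← Set.range_comp]
  rfl

/-- Membership over an algebraic closure of the fraction field, down to the ring. -/
theorem exists_C_mul_mem [IsDomain A] (L : Type u) [Field L] [Algebra A L] (hL : Function.Injective (algebraMap A L))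
    {ι : Type*} [Fintype ι] (f : ι → MvPolynomial (Fin N) A) (x : MvPolynomial (Fin N) A)
    (h : MvPolynomial.map (algebraMap A L) x ∈ spanImg f L) :
    ∃ e : A, e ≠ 0 ∧ MvPolynomial.C e * x ∈ Ideal.span (Set.range f) := by
  let K := FractionRing A
  letI : Algebra K L := (IsFractionRing.lift (g := algebraMap A L) hL).toAlgebra
  haveI : IsScalarTower A K L :=
    IsScalarTower.of_algebraMap_eq fun a => (IsFractionRing.lift_algebraMap hL a).symm
  have hcomp : ∀ p : MvPolynomial (Fin N) A,
      MvPolynomial.map (algebraMap K L) (MvPolynomial.map (algebraMap A K) p) = MvPolynomial.map (algebraMap A L) p :=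
    fun p => by rw [MvPolynomial.map_map, ← IsScalarTower.algebraMap_eq]
  have h1 : MvPolynomial.map (algebraMap A K) x ∈
      Ideal.span (Set.range fun i => MvPolynomial.map (algebraMap A K) (f i)) := by
    refine mem_span_of_map_mem (L := L) _ _ ?_
    simp only [hcomp]
    rwa [← spanImg_eq]
  letI := MvPolynomial.algebraMvPolynomial (σ := Fin N) (R := A) (S := K)
  haveI : IsLocalization ((nonZeroDivisors A).map (MvPolynomial.C (σ := Fin N))) (MvPolynomial (Fin N) K) :=
    MvPolynomial.isLocalization _ _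
  have h2 : algebraMap (MvPolynomial (Fin N) A) (MvPolynomial (Fin N) K) x ∈
      (Ideal.span (Set.range f)).map (algebraMap (MvPolynomial (Fin N) A) (MvPolynomial (Fin N) K)) := by
    rw [Ideal.map_span, ← Set.range_comp]
    exact h1
  obtain ⟨_, ⟨e, he, rfl⟩, hm⟩ :=
    (IsLocalization.algebraMap_mem_map_algebraMap_iff ((nonZeroDivisors A).map (MvPolynomial.C (σ := Fin N)))
      (MvPolynomial (Fin N) K) (Ideal.span (Set.range f)) x).1 h2
  exact ⟨e, nonZeroDivisors.ne_zero he, hm⟩

theorem mem_of_C_mul_mem {R : Type u} [CommRing R] [Algebra A R] {ι : Type*} (g : ι → MvPolynomial (Fin N) A)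
    {e : A} (he : IsUnit (algebraMap A R e)) {x : MvPolynomial (Fin N) A}
    (h : MvPolynomial.C e * x ∈ Ideal.span (Set.range g)) : MvPolynomial.map (algebraMap A R) x ∈ spanImg g R := by
  have h1 := Ideal.mem_map_of_mem (MvPolynomial.map (σ := Fin N) (algebraMap A R)) h
  rw [map_mul, map_C] at h1
  exact (Ideal.unit_mul_mem_iff_mem _ (he.map MvPolynomial.C)).1 h1

/-- A radical generic fibre has radical fibres nearby. -/
theorem exists_radical_near {n : ℕ} {A1 : Type u} [CommRing A1] [IsDomain A1] (L : Type u) [Field L] [IsAlgClosed L]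
    [Algebra A1 L] [Algebra.IsAlgebraic A1 L] (hA1L : Function.Injective (algebraMap A1 L))
    (g : Fin n → MvPolynomial (Fin N) A1) (hrad : (spanImg g L).IsRadical) :
    ∃ c1 : A1, c1 ≠ 0 ∧ ∀ (k : Type u) [Field k] [Algebra A1 k], algebraMap A1 k c1 ≠ 0 →
      (spanImg g k).IsRadical := by
  let K1 := FractionRing A1
  letI : Algebra K1 L := (IsFractionRing.lift (g := algebraMap A1 L) hA1L).toAlgebra
  haveI : IsScalarTower A1 K1 L :=
    IsScalarTower.of_algebraMap_eq fun x => (IsFractionRing.lift_algebraMap hA1L x).symm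
  haveI : Algebra.IsAlgebraic K1 L :=
    (IsFractionRing.comap_isAlgebraic_iff (A := A1) (K := K1) (C := L)).1 inferInstance
  haveI : IsAlgClosure K1 L := ⟨inferInstance, inferInstance⟩
  let R := MvPolynomial (Fin N) A1 ⧸ Ideal.span (Set.range g)
  haveI : IsReduced (L ⊗[A1] R) := (isReduced_tensor_iff _ L).2 hrad
  haveI : Algebra.IsGeometricallyReduced K1 (K1 ⊗[A1] R) := by
    rw [Algebra.isGeometricallyReduced_field_iff]
    let ε : AlgebraicClosure K1 ≃ₐ[K1] L := IsAlgClosure.equiv K1 _ _
    let εR := Algebra.TensorProduct.congr (ε.restrictScalars A1) (AlgEquiv.refl : R ≃ₐ[A1] R)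
    haveI : IsReduced (AlgebraicClosure K1 ⊗[A1] R) := isReduced_of_injective εR εR.injective
    let Φ := Algebra.TensorProduct.cancelBaseChange A1 K1 (AlgebraicClosure K1) (AlgebraicClosure K1) R
    exact isReduced_of_injective Φ Φ.injective
  obtain ⟨c1, hc1, hred⟩ := Groth.Agent.FlatMisc.SpreadRed.exists_reduced_near (R := A1) (S := R) K1
  exact ⟨c1, hc1, fun k _ _ hk => (isReduced_tensor_iff _ k).1 (hred k hk)⟩

/-- Near the generic point: a finite extension over which generators of the radical have radical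
specialisations. -/
theorem exists_family [IsDomain A] [IsNoetherianRing A] (f : Fin M → MvPolynomial (Fin N) A) :
    ∃ (A1 : Type u) (_ : CommRing A1) (_ : Algebra A A1) (n : ℕ) (g : Fin n → MvPolynomial (Fin N) A1),
      Module.Finite A A1 ∧ Function.Injective (algebraMap A A1) ∧ ∃ c : A, c ≠ 0 ∧
        ∀ (k : Type u) [Field k] [Algebra A1 k], algebraMap A1 k (algebraMap A A1 c) ≠ 0 →
          (spanImg g k).IsRadical ∧
          (spanImg g k) = (spanImg (fun i => MvPolynomial.map (algebraMap A A1) (f i)) k).radical := by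
  classical
  let K := FractionRing A
  let L := AlgebraicClosure K
  have halg : Algebra.IsAlgebraic A L := (IsFractionRing.comap_isAlgebraic_iff (A := A) (K := K) (C := L)).2 inferInstance
  have hAL : Function.Injective (algebraMap A L) := by
    rw [IsScalarTower.algebraMap_eq A K L]
    exact (algebraMap K L).injective.comp (IsFractionRing.injective A K)
  let J := (spanImg f L).radical
  obtain ⟨n, g0, hg0⟩ := Submodule.fg_iff_exists_fin_generating_family.1 (IsNoetherian.noetherian J)
  obtain ⟨a, ha, hint⟩ := Algebra.IsAlgebraic.exists_integral_multiples A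
    ((Finset.univ : Finset (Fin n)).biUnion fun l => (g0 l).support.image (g0 l).coeff)
  let s : Set L := ↑(((Finset.univ : Finset (Fin n)).biUnion fun l => (g0 l).support.image (g0 l).coeff).image (a • ·))
  have hs : ∀ z ∈ s, IsIntegral A z := fun z hz => by
    obtain ⟨w, hw, rfl⟩ := Finset.mem_image.1 hz
    exact hint w hw
  let A1 : Subalgebra A L := Algebra.adjoin A s
  haveI hfin : Module.Finite A A1 :=
    Module.Finite.iff_fg.2 (fg_adjoin_of_finite (Finset.finite_toSet _) hs)
  haveI : Algebra.IsIntegral A A1 := Algebra.IsIntegral.of_finite A A1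
  have hmem : ∀ l, a • g0 l ∈ RingHom.range (MvPolynomial.map (σ := Fin N) (algebraMap A1 L)) := fun l => by
    show a • g0 l ∈ Set.range (MvPolynomial.map _)
    rw [mem_range_map_iff_coeffs_subset]
    intro z hz
    obtain ⟨d, hd, rfl⟩ := mem_coeffs_iff.1 hz
    rw [coeff_smul]
    refine ⟨⟨_, Algebra.subset_adjoin (Finset.mem_image.2 ⟨_, Finset.mem_biUnion.2 ⟨l, Finset.mem_univ _,
      Finset.mem_image.2 ⟨d, ?_, rfl⟩⟩, rfl⟩)⟩, rfl⟩
    exact MvPolynomial.support_smul hd
  choose g hg using hmem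
  have hJ : spanImg g L = J := by
    rw [spanImg_eq]
    simp only [hg]
    rw [← hg0]
    have hu : IsUnit (MvPolynomial.C (σ := Fin N) (algebraMap A L a)) :=
      (IsUnit.mk0 _ fun h0 => ha (hAL (h0.trans (map_zero _).symm))).map _
    refine le_antisymm (Ideal.span_le.2 ?_) (Ideal.span_le.2 ?_)
    · rintro _ ⟨l, rfl⟩
      show a • g0 l ∈ _
      rw [Algebra.smul_def]
      exact Ideal.mul_mem_left _ _ (Submodule.subset_span ⟨l, rfl⟩)
    · rintro _ ⟨l, rfl⟩
      refine (Ideal.unit_mul_mem_iff_mem _ hu).1 ?_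
      refine Ideal.subset_span ⟨l, ?_⟩
      show a • g0 l = _
      rw [Algebra.smul_def]
      rfl
  have hA1L : Function.Injective (algebraMap A1 L) := Subtype.val_injective
  have hAA1 : Function.Injective (algebraMap A A1) := fun x y h => hAL (congrArg Subtype.val h)
  let f1 : Fin M → MvPolynomial (Fin N) A1 := fun i => MvPolynomial.map (algebraMap A A1) (f i)
  have hf1 : spanImg f1 L = spanImg f L := by
    rw [spanImg_eq, spanImg_eq]
    simp only [f1, MvPolynomial.map_map, ← IsScalarTower.algebraMap_eq]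
  -- clear denominators
  have he1 : ∀ i, ∃ e : A1, e ≠ 0 ∧ MvPolynomial.C e * f1 i ∈ Ideal.span (Set.range g) := fun i =>
    exists_C_mul_mem L hA1L g _ (by
      rw [hJ]
      exact Ideal.le_radical (hf1 ▸ Ideal.mem_map_of_mem _ (Ideal.subset_span ⟨i, rfl⟩)))
  have he2 : ∀ l, ∃ t : ℕ, ∃ e : A1, e ≠ 0 ∧ MvPolynomial.C e * g l ^ t ∈ Ideal.span (Set.range f1) := fun l => by
    obtain ⟨t, ht⟩ := (hJ ▸ Ideal.mem_map_of_mem _ (Ideal.subset_span ⟨l, rfl⟩) :
      MvPolynomial.map (algebraMap A1 L) (g l) ∈ J)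
    exact ⟨t, exists_C_mul_mem L hA1L f1 _ (by rw [map_pow, hf1]; exact ht)⟩
  choose e1 he1 he1' using he1
  choose t e2 he2 he2' using he2
  -- geometric reducedness of the generic fibre
  haveI : Algebra.IsAlgebraic A1 L := ⟨fun x => (halg.isAlgebraic x).extendScalars hAA1⟩
  obtain ⟨c1, hc1, hred⟩ := exists_radical_near L hA1L g (hJ ▸ Ideal.radical_isRadical _)
  have hne : c1 * (∏ i, e1 i) * ∏ l, e2 l ≠ 0 := mul_ne_zero (mul_ne_zero hc1
    (Finset.prod_ne_zero_iff.2 fun i _ => he1 i)) (Finset.prod_ne_zero_iff.2 fun l _ => he2 l)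
  obtain ⟨c, hc, hdvd⟩ := (Algebra.IsIntegral.isIntegral (R := A) (c1 * (∏ i, e1 i) * ∏ l, e2 l)).isAlgebraic.exists_nonzero_dvd
    (mem_nonZeroDivisors_of_ne_zero hne)
  refine ⟨A1, inferInstance, inferInstance, n, g, hfin, hAA1, c, hc, fun k _ _ hk => ?_⟩
  have hu : IsUnit (algebraMap A1 k (c1 * (∏ i, e1 i) * ∏ l, e2 l)) :=
    isUnit_of_dvd_unit (map_dvd (algebraMap A1 k) hdvd) (IsUnit.mk0 _ hk)
  rw [map_mul, map_mul, IsUnit.mul_iff, IsUnit.mul_iff, map_prod, map_prod, IsUnit.prod_univ_iff,
    IsUnit.prod_univ_iff] at hu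
  obtain ⟨⟨hu1, hue1⟩, hue2⟩ := hu
  have hrad : (spanImg g k).IsRadical := hred k hu1.ne_zero
  refine ⟨hrad, le_antisymm ?_ ?_⟩
  · rw [spanImg_eq, Ideal.span_le]
    rintro _ ⟨l, rfl⟩
    exact ⟨t l, by rw [← map_pow]; exact mem_of_C_mul_mem f1 (hue2 l) (he2' l)⟩
  · refine (Ideal.radical_mono (J := spanImg g k) ?_).trans hrad
    rw [spanImg_eq, Ideal.span_le]
    rintro _ ⟨i, rfl⟩
    exact mem_of_C_mul_mem g (hue1 i) (he1' i)

end Groth.Agent.Calg46.RadBound
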